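import Mathlib
import Cfsg.Agent.Lib.helper15.WB.Defs

set_option autoImplicit false

/-!
# Project SpE (S2333): definitions

`G = Matrix.symplecticGroup (Fin n) F` (matrices on `Fin n ⊕ Fin n` with `A * J * Aᵀ = J`).
* `SymM n F` : the symmetric `n × n` matrices, an additive subgroup;
* `uS S = [[1, S], [0, 1]]` (`S` symmetric) : the Siegel unipotent radical, `uS (S + S') = uS S * uS S'`;
* `lev A = [[A, 0], [0, (A⁻¹)ᵀ]]` (`A ∈ GL_n`) : the Levi subgroup, `lev A * uS S * (lev A)⁻¹ = uS (A S Aᵀ)`;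
* `qf X v = vᵀ X v` : the quadratic form of a matrix;
* `symChar χ0 X : S ↦ χ0 (tr (X S))` : the character of `SymM n F` attached to `X`.
-/

namespace Cfsg.Agent.Lib.Helper22.SpE

open Matrix

variable {F : Type*} [Field F] {n : ℕ}

/-- the symmetric matrices -/
def SymM (n : ℕ) (F : Type*) [Field F] : AddSubgroup (Matrix (Fin n) (Fin n) F) where
  carrier := {S | Sᵀ = S}
  add_mem' := by
    intro a b ha hb
    show (a + b)ᵀ = a + b
    rw [Matrix.transpose_add, ha, hb]
  zero_mem' := Matrix.transpose_zero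
  neg_mem' := by
    intro a ha
    show (-a)ᵀ = -a
    rw [Matrix.transpose_neg, ha]

theorem mem_SymM {S : Matrix (Fin n) (Fin n) F} : S ∈ SymM n F ↔ Sᵀ = S := Iff.rfl

/-- the matrix `[[1, S], [0, 1]]` -/
def uSm (S : Matrix (Fin n) (Fin n) F) : Matrix (Fin n ⊕ Fin n) (Fin n ⊕ Fin n) F :=
  Matrix.fromBlocks 1 S 0 1

theorem uSm_mem {S : Matrix (Fin n) (Fin n) F} (hS : Sᵀ = S) :
    uSm S ∈ Matrix.symplecticGroup (Fin n) F := by
  rw [SymplecticGroup.mem_iff]
  unfold uSm Matrix.J
  rw [Matrix.fromBlocks_transpose, Matrix.fromBlocks_multiply, Matrix.fromBlocks_multiply]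
  simp [hS]

/-- the Siegel unipotent element attached to a symmetric matrix -/
def uS (S : SymM n F) : Matrix.symplecticGroup (Fin n) F := ⟨uSm (S : Matrix (Fin n) (Fin n) F),
  uSm_mem S.2⟩

@[simp] theorem coe_uS (S : SymM n F) :
    ((uS S : Matrix.symplecticGroup (Fin n) F) : Matrix (Fin n ⊕ Fin n) (Fin n ⊕ Fin n) F) =
      Matrix.fromBlocks 1 (S : Matrix (Fin n) (Fin n) F) 0 1 := rfl

theorem uS_add (S S' : SymM n F) : uS (S + S') = uS S * uS S' := by
  apply Subtype.ext
  show uSm _ = uSm _ * uSm _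
  unfold uSm
  rw [Matrix.fromBlocks_multiply]
  simp [add_comm]

theorem uS_injective : Function.Injective (uS : SymM n F → Matrix.symplecticGroup (Fin n) F) := by
  intro S S' h
  have h1 := congrArg (fun g : Matrix.symplecticGroup (Fin n) F =>
    (g : Matrix (Fin n ⊕ Fin n) (Fin n ⊕ Fin n) F)) h
  simp only [coe_uS] at h1
  have h2 := (Matrix.fromBlocks_inj.1 h1).2.1
  exact Subtype.ext h2

/-- the matrix `[[A, 0], [0, Bᵀ]]` (symplectic when `A * B = 1`) -/
def levm (A B : Matrix (Fin n) (Fin n) F) : Matrix (Fin n ⊕ Fin n) (Fin n ⊕ Fin n) F :=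
  Matrix.fromBlocks A 0 0 Bᵀ

theorem levm_mem {A B : Matrix (Fin n) (Fin n) F} (h : A * B = 1) :
    levm A B ∈ Matrix.symplecticGroup (Fin n) F := by
  have h' : B * A = 1 := mul_eq_one_comm.1 h
  rw [SymplecticGroup.mem_iff]
  unfold levm Matrix.J
  rw [Matrix.fromBlocks_transpose, Matrix.fromBlocks_multiply, Matrix.fromBlocks_multiply]
  have h2 : Bᵀ * Aᵀ = 1 := by rw [← Matrix.transpose_mul, h, Matrix.transpose_one]
  simp [h, h2]

/-- the Levi element attached to an invertible matrix -/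
def lev : Matrix.GeneralLinearGroup (Fin n) F →* Matrix.symplecticGroup (Fin n) F where
  toFun A := ⟨levm (A : Matrix (Fin n) (Fin n) F) ((A⁻¹ : Matrix.GeneralLinearGroup (Fin n) F) :
    Matrix (Fin n) (Fin n) F), levm_mem (by
      rw [← Matrix.GeneralLinearGroup.coe_mul, mul_inv_cancel]; rfl)⟩
  map_one' := by
    apply Subtype.ext
    show levm _ _ = 1
    unfold levm
    simp
  map_mul' := by
    intro A B
    apply Subtype.ext
    show levm _ _ = levm _ _ * levm _ _
    unfold levm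
    rw [Matrix.fromBlocks_multiply]
    simp [_root_.mul_inv_rev, Matrix.transpose_mul]

@[simp] theorem coe_lev (A : Matrix.GeneralLinearGroup (Fin n) F) :
    ((lev A : Matrix.symplecticGroup (Fin n) F) : Matrix (Fin n ⊕ Fin n) (Fin n ⊕ Fin n) F) =
      Matrix.fromBlocks (A : Matrix (Fin n) (Fin n) F) 0 0
        ((A⁻¹ : Matrix.GeneralLinearGroup (Fin n) F) : Matrix (Fin n) (Fin n) F)ᵀ := rfl

/-- congruence `S ↦ A S Aᵀ` on the symmetric matrices -/
def cgS (A : Matrix (Fin n) (Fin n) F) : SymM n F →+ SymM n F where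
  toFun S := ⟨A * (S : Matrix (Fin n) (Fin n) F) * Aᵀ, by
    show (A * (S : Matrix (Fin n) (Fin n) F) * Aᵀ)ᵀ = _
    rw [Matrix.transpose_mul, Matrix.transpose_mul, Matrix.transpose_transpose, S.2,
      Matrix.mul_assoc]⟩
  map_zero' := by
    apply Subtype.ext
    simp
  map_add' := by
    intro a b
    apply Subtype.ext
    simp [Matrix.mul_add, Matrix.add_mul]

@[simp] theorem coe_cgS (A : Matrix (Fin n) (Fin n) F) (S : SymM n F) :
    ((cgS A S : SymM n F) : Matrix (Fin n) (Fin n) F) = A * (S : Matrix (Fin n) (Fin n) F) * Aᵀ :=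
  rfl

theorem lev_conj (A : Matrix.GeneralLinearGroup (Fin n) F) (S : SymM n F) :
    lev A * uS S * (lev A)⁻¹ = uS (cgS (A : Matrix (Fin n) (Fin n) F) S) := by
  rw [← map_inv]
  apply Subtype.ext
  show levm _ _ * uSm _ * levm _ _ = uSm _
  unfold levm uSm
  rw [Matrix.fromBlocks_multiply, Matrix.fromBlocks_multiply]
  have h1 : (A : Matrix (Fin n) (Fin n) F) *
      ((A⁻¹ : Matrix.GeneralLinearGroup (Fin n) F) : Matrix (Fin n) (Fin n) F) = 1 := by
    rw [← Matrix.GeneralLinearGroup.coe_mul, mul_inv_cancel]; rfl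
  have h2 : ((A⁻¹ : Matrix.GeneralLinearGroup (Fin n) F) : Matrix (Fin n) (Fin n) F)ᵀ *
      (A : Matrix (Fin n) (Fin n) F)ᵀ = 1 := by
    rw [← Matrix.transpose_mul, h1, Matrix.transpose_one]
  simp only [Matrix.one_mul, Matrix.mul_one, Matrix.mul_zero, Matrix.zero_mul, add_zero,
    zero_add, inv_inv, h1, h2]
  rw [coe_cgS, Matrix.mul_assoc]

/-- the quadratic form `v ↦ vᵀ X v` of a matrix -/
def qf (X : Matrix (Fin n) (Fin n) F) (v : Fin n → F) : F := v ⬝ᵥ X.mulVec v

/-- trace pairing against a fixed matrix, on the symmetric matrices -/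
def trS (X : Matrix (Fin n) (Fin n) F) : SymM n F →+ F where
  toFun S := Matrix.trace (X * (S : Matrix (Fin n) (Fin n) F))
  map_zero' := by simp
  map_add' := by intro a b; simp [Matrix.mul_add, Matrix.trace_add]

/-- the character `S ↦ χ0 (tr (X S))` of the symmetric matrices -/
def symChar (χ0 : AddChar F ℂ) (X : Matrix (Fin n) (Fin n) F) : AddChar (SymM n F) ℂ :=
  χ0.compAddMonoidHom (trS X)

theorem symChar_apply (χ0 : AddChar F ℂ) (X : Matrix (Fin n) (Fin n) F) (S : SymM n F) :
    symChar χ0 X S = χ0 (Matrix.trace (X * (S : Matrix (Fin n) (Fin n) F))) := rfl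

/-- the symmetric matrix `c (E_ij + E_ji)` -/
def symPair (i j : Fin n) (c : F) : SymM n F :=
  ⟨Matrix.single i j c + Matrix.single j i c, by
    show (Matrix.single i j c + Matrix.single j i c)ᵀ = _
    rw [Matrix.transpose_add, Matrix.transpose_single, Matrix.transpose_single, add_comm]⟩

@[simp] theorem coe_symPair (i j : Fin n) (c : F) :
    ((symPair i j c : SymM n F) : Matrix (Fin n) (Fin n) F) =
      Matrix.single i j c + Matrix.single j i c := rfl

/-- the polar form of `Q` does not vanish identically -/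
def HasPolar (Q : (Fin n → F) → F) : Prop := ∃ u v, QuadraticMap.polar Q u v ≠ 0

/-- `Q` has a nonzero singular vector in the radical of its polar form -/
def SingRad (Q : (Fin n → F) → F) : Prop :=
  ∃ v, v ≠ 0 ∧ Q v = 0 ∧ ∀ w, QuadraticMap.polar Q v w = 0

/-- a set of quadratic forms on `F^n`, stable under invertible linear substitutions -/
structure FormSet (n : ℕ) (T : Finset ((Fin n → F) → F)) : Prop where
  isqf : ∀ Q ∈ T, ∃ X : Matrix (Fin n) (Fin n) F, Q = qf X
  inv : ∀ Q ∈ T, ∀ A : Matrix (Fin n) (Fin n) F, A.det ≠ 0 → (fun v => Q (A.mulVec v)) ∈ T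

/-- invariants of a form on `F^(n+1)` with respect to the first coordinate -/
def a0 (Q : (Fin (n + 1) → F) → F) : F := Q (Pi.single 0 1)

def b0 (Q : (Fin (n + 1) → F) → F) : Fin n → F :=
  fun j => QuadraticMap.polar Q (Pi.single 0 1) (Pi.single j.succ 1)

/-- restriction of a form to the last `n` coordinates -/
def restr (Q : (Fin (n + 1) → F) → F) : (Fin n → F) → F := fun w => Q (Fin.cons 0 w)

end Cfsg.Agent.Lib.Helper22.SpE
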